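import Mathlib.NumberTheory.NumberField.Units.DirichletTheorem
import Mathlib.NumberTheory.NumberField.ClassNumber
import Mathlib.RingTheory.DedekindDomain.SInteger
import Mathlib.RingTheory.DedekindDomain.SelmerGroup
import Mathlib.RingTheory.DedekindDomain.Factorization
import Mathlib.LinearAlgebra.Dimension.Localization
import Mathlib.LinearAlgebra.FreeModule.PID
import Mathlib.GroupTheory.FiniteAbelian.Basic
import Mathlib.LinearAlgebra.Dimension.Torsion.Basic
import Groth.Agent.Etcore.Herbrand

/-!
# The S-unit theorem, mod `p` form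

* `cok_sUnit`: for a finite set `S` of finite places of a number field `K`,
  `#(U_S/p) = p^(r + #S) * #U_S[p]`, `r` the unit rank.
* `exists_finite_principal`: there is a finite `S` such that every divisor is principal outside `S`.
-/

set_option autoImplicit false

open Groth.Agent.Etcore.Herbrand NumberField IsDedekindDomain Module
open scoped WithZero nonZeroDivisors

namespace Groth.Agent.Etbc.H136.SUnit

section fg

theorem cok_of_finite (n : ℕ) (A : Type*) [AddCommGroup A] [Finite A] : cok n A = tor n A := by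
  have h1 := card_eq_ker_mul_range (mulN n A)
  have h2 := Submodule.card_eq_card_quotient_mul_card (LinearMap.range (mulN n A))
  rw [h1, mul_comm] at h2
  have h3 : 0 < Nat.card (LinearMap.range (mulN n A)) := Nat.card_pos
  exact (Nat.eq_of_mul_eq_mul_left h3 h2).symm

theorem cok_free (n : ℕ) (A : Type*) [AddCommGroup A] [Module.Finite ℤ A] [Module.Free ℤ A] :
    cok n A = n ^ finrank ℤ A := by
  let b := Module.finBasis ℤ A
  rw [cok_congr n b.repr.toAddEquiv, cok_finsupp, Nat.card_fin]

theorem tor_free (n : ℕ) (hn : n ≠ 0) (A : Type*) [AddCommGroup A] [Module.Free ℤ A] :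
    tor n A = 1 := by
  refine tor_eq_one n A fun m hm => ?_
  have : (n : ℤ) • m = 0 := by rw [natCast_zsmul]; exact hm
  exact (smul_eq_zero.1 this).resolve_left (by exact_mod_cast hn)

theorem cok_fg (n : ℕ) (hn : n ≠ 0) (A : Type*) [AddCommGroup A] [Module.Finite ℤ A] :
    tor n A ≠ 0 ∧ cok n A = n ^ finrank ℤ A * tor n A := by
  have : Finite (Submodule.torsion ℤ A) := by
    have : Module.IsTorsion ℤ (Submodule.torsion ℤ A) := Submodule.torsion_isTorsion
    exact Module.finite_of_fg_torsion _ this
  let B := A ⧸ Submodule.torsion ℤ A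
  have : Module.Free ℤ B := inferInstance
  have h := herbrand n (Submodule.torsion ℤ A).subtype (Submodule.torsion ℤ A).mkQ
    (Submodule.injective_subtype _) (Submodule.mkQ_surjective _)
    (LinearMap.exact_subtype_mkQ _)
  have hr : finrank ℤ B = finrank ℤ A := finrank_quotient_eq_of_le_torsion le_rfl
  rw [tor_free n hn B, cok_free n B, cok_of_finite n (Submodule.torsion ℤ A), mul_one, hr] at h
  have ht : tor n (Submodule.torsion ℤ A) ≠ 0 := Nat.card_pos.ne'
  have h' : cok n A = tor n A * n ^ finrank ℤ A := by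
    rw [mul_comm (tor n A) (tor n _), mul_assoc] at h
    exact Nat.eq_of_mul_eq_mul_left (Nat.pos_of_ne_zero ht) h
  refine ⟨?_, h'.trans (mul_comm _ _)⟩
  have hf : Finite (LinearMap.ker (mulN n A)) := by
    have hle : LinearMap.ker (mulN n A) ≤ Submodule.torsion ℤ A := by
      intro x hx
      rw [LinearMap.mem_ker, mulN_apply] at hx
      rw [Submodule.mem_torsion_iff]
      refine ⟨⟨(n : ℤ), mem_nonZeroDivisors_of_ne_zero (by exact_mod_cast hn)⟩, ?_⟩
      change (n : ℤ) • x = 0
      rw [natCast_zsmul, hx]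
    exact Finite.of_injective _ (Submodule.inclusion_injective hle)
  exact Nat.card_pos.ne'

end fg

section val

variable {R : Type*} [CommRing R] [IsDedekindDomain R] (K : Type*) [Field K] [Algebra R K]
  [IsFractionRing R K]

theorem val_self {r : R} (hr : r ≠ 0) (v : HeightOneSpectrum R) (k : ℕ) (J : Ideal R)
    (h : Ideal.span {r} = v.asIdeal ^ k * J) (hJ : ¬ v.asIdeal ∣ J) :
    v.valuation K (algebraMap R K r) = WithZero.exp (-(k : ℤ)) := by
  have hne : v.asIdeal ^ k * J ≠ 0 := by rw [← h]; simpa using hr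
  rw [HeightOneSpectrum.valuation_of_algebraMap,
    HeightOneSpectrum.intValuation_eq_exp_neg_multiplicity _ hr, h,
    multiplicity_mul v.prime (FiniteMultiplicity.of_prime_left v.prime hne),
    multiplicity_eq_zero.2 hJ, add_zero, multiplicity_pow_self v.ne_bot v.prime.not_isUnit]

theorem val_other {r : R} (hr : r ≠ 0) (w : HeightOneSpectrum R) (I : Ideal R)
    (h : Ideal.span {r} = I) (hI : ¬ w.asIdeal ∣ I) :
    w.valuation K (algebraMap R K r) = 1 := by
  rw [HeightOneSpectrum.valuation_of_algebraMap,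
    HeightOneSpectrum.intValuation_eq_exp_neg_multiplicity _ hr, h,
    multiplicity_eq_zero.2 hI]
  simp

theorem not_dvd_of_ne {v w : HeightOneSpectrum R} (hvw : w ≠ v) (k : ℕ) :
    ¬ w.asIdeal ∣ v.asIdeal ^ k := by
  intro h
  have h1 := w.prime.dvd_of_dvd_pow h
  apply hvw
  have h2 : v.asIdeal ≤ w.asIdeal := Ideal.dvd_iff_le.1 h1
  exact HeightOneSpectrum.ext (v.isMaximal.eq_of_le w.isPrime.ne_top h2).symm

/-- a nonzero element with prescribed divisor -/
theorem exists_pow_principal [Finite (ClassGroup R)] (v : HeightOneSpectrum R) :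
    ∃ x : Kˣ, v.valuation K (x : K) = WithZero.exp (-(Nat.card (ClassGroup R) : ℤ)) ∧
      ∀ w : HeightOneSpectrum R, w ≠ v → w.valuation K (x : K) = 1 := by
  classical
  have hc : (ClassGroup.mk0 ⟨v.asIdeal, mem_nonZeroDivisors_of_ne_zero v.ne_bot⟩ : ClassGroup R) ^
      Nat.card (ClassGroup R) = 1 := pow_card_eq_one'
  rw [← map_pow] at hc
  have h2 := (ClassGroup.mk0_eq_one_iff (I := v.asIdeal ^ Nat.card (ClassGroup R))
    (pow_mem (mem_nonZeroDivisors_of_ne_zero v.ne_bot) _)).1 hc
  obtain ⟨a, ha⟩ := h2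
  have ha0 : a ≠ 0 := by
    rintro rfl
    have : v.asIdeal ^ Nat.card (ClassGroup R) = 0 := by
      rw [ha]; simp
    exact v.ne_bot (pow_eq_zero_iff (Nat.card_pos.ne') |>.1 this)
  have ha' : Ideal.span {a} = v.asIdeal ^ Nat.card (ClassGroup R) := ha.symm
  have haK : algebraMap R K a ≠ 0 := by simpa using ha0
  refine ⟨Units.mk0 _ haK, ?_, fun w hw => ?_⟩
  · exact val_self K ha0 v _ 1 (by rw [ha', mul_one])
      (fun h => v.prime.not_isUnit (isUnit_of_dvd_one h))
  · exact val_other K ha0 w _ ha' (not_dvd_of_ne hw _)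

theorem exists_finite_principal' (R : Type*) [CommRing R] [IsDedekindDomain R] (K : Type*)
    [Field K] [Algebra R K] [IsFractionRing R K] [Finite (ClassGroup R)] :
    ∃ S : Set (HeightOneSpectrum R), S.Finite ∧
      ∀ n : HeightOneSpectrum R →₀ ℤ, ∃ x : Kˣ, ∀ v ∉ S,
        v.valuation K (x : K) = WithZero.exp (n v) := by
  classical
  choose J hJ using (ClassGroup.mk0_surjective (R := R))
  let S : Set (HeightOneSpectrum R) := ⋃ c : ClassGroup R, {w | w.asIdeal ∣ (J c : Ideal R)}
  have hS : S.Finite := Set.finite_iUnion fun c =>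
    Ideal.finite_factors (nonZeroDivisors.coe_ne_zero (J c))
  refine ⟨S, hS, fun n => ?_⟩
  have key : ∀ v : HeightOneSpectrum R, ∃ x : Kˣ, ∀ w ∉ S,
      w.valuation K (x : K) = WithZero.exp ((Finsupp.single v (1 : ℤ)) w) := by
    intro v
    let c : ClassGroup R := (ClassGroup.mk0 ⟨v.asIdeal, mem_nonZeroDivisors_of_ne_zero v.ne_bot⟩)⁻¹
    obtain ⟨a, ha0, ha⟩ := ClassGroup.mk0_eq_mk0_inv_iff.1 (hJ c)
    have haK : algebraMap R K a ≠ 0 := by simpa using ha0
    refine ⟨(Units.mk0 _ haK)⁻¹, fun w hw => ?_⟩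
    have hwJ : ¬ w.asIdeal ∣ (J c : Ideal R) := fun h => hw (Set.mem_iUnion.2 ⟨c, h⟩)
    have hval : (((Units.mk0 _ haK)⁻¹ : Kˣ) : K) = (algebraMap R K a)⁻¹ := by simp
    rw [hval, map_inv₀]
    by_cases hwv : w = v
    · subst hwv
      rw [val_self K ha0 w 1 (J c) (by rw [← ha, pow_one, mul_comm]) hwJ]
      simp [← WithZero.exp_neg]
    · rw [val_other K ha0 w _ ha.symm ?_]
      · rw [Finsupp.single_eq_of_ne (by exact hwv)]
        simp
      · intro h
        rcases w.prime.dvd_or_dvd h with h1 | h1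
        · exact hwJ h1
        · exact not_dvd_of_ne hwv 1 (by rw [pow_one]; exact h1)
  induction n using Finsupp.induction_linear with
  | zero => exact ⟨1, fun v _ => by simp⟩
  | add f g hf hg =>
    obtain ⟨x, hx⟩ := hf
    obtain ⟨y, hy⟩ := hg
    refine ⟨x * y, fun v hv => ?_⟩
    rw [Units.val_mul, map_mul, hx v hv, hy v hv, ← WithZero.exp_add, Finsupp.add_apply]
  | single v k =>
    obtain ⟨x, hx⟩ := key v
    refine ⟨x ^ k, fun w hw => ?_⟩
    rw [Units.val_zpow_eq_zpow_val, map_zpow₀, hx w hw, ← WithZero.exp_zsmul]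
    congr 1
    by_cases hwv : w = v
    · subst hwv; simp
    · rw [Finsupp.single_eq_of_ne hwv, Finsupp.single_eq_of_ne hwv, smul_zero]

end val

theorem exists_finite_principal (K : Type*) [Field K] [NumberField K] :
    ∃ S : Set (HeightOneSpectrum (𝓞 K)), S.Finite ∧
      ∀ n : HeightOneSpectrum (𝓞 K) →₀ ℤ, ∃ x : Kˣ, ∀ v ∉ S,
        v.valuation K (x : K) = WithZero.exp (n v) :=
  exists_finite_principal' (𝓞 K) K

section sunit

variable {K : Type*} [Field K] [NumberField K] (S : Set (HeightOneSpectrum (𝓞 K)))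

/-- the valuations at the places of `S` -/
noncomputable def valS : Additive (S.unit K) →+ (S → ℤ) where
  toFun x s := Multiplicative.toAdd (s.1.valuationOfNeZero (K := K) ((x.toMul : S.unit K) : Kˣ))
  map_zero' := by
    funext s
    simp
  map_add' x y := by
    funext s
    simp [map_mul, toAdd_mul]

theorem valS_apply (x : S.unit K) (s : S) :
    WithZero.exp (valS S (Additive.ofMul x) s) = s.1.valuation K ((x : Kˣ) : K) := by
  rw [← HeightOneSpectrum.valuationOfNeZero_eq]
  rfl

/-- units are `S`-units -/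
noncomputable def ofUnits : Additive (𝓞 K)ˣ →+ Additive (S.unit K) where
  toFun u := Additive.ofMul ⟨Units.map (algebraMap (𝓞 K) K : 𝓞 K →* K) u.toMul, fun v _ => by
    have h := v.valuation_of_unit_eq (K := K) u.toMul
    rw [← WithZero.coe_inj, HeightOneSpectrum.valuationOfNeZero_eq] at h
    exact h⟩
  map_zero' := by
    apply Additive.toMul.injective
    apply Subtype.ext
    simp
  map_add' x y := by
    apply Additive.toMul.injective
    apply Subtype.ext
    simp

theorem ofUnits_injective : Function.Injective (ofUnits (K := K) S) := by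
  intro x y h
  apply Additive.toMul.injective
  apply Units.ext
  have h1 : ((ofUnits S x).toMul : S.unit K) = (ofUnits S y).toMul := by rw [h]
  have h2 : (((ofUnits S x).toMul : Kˣ) : K) = ((ofUnits S y).toMul : Kˣ) := by rw [h1]
  exact FaithfulSMul.algebraMap_injective (𝓞 K) K h2

theorem exact_ofUnits : Function.Exact (ofUnits (K := K) S) (valS S) := by
  intro x
  constructor
  · intro hx
    have h1 : ∀ v : HeightOneSpectrum (𝓞 K),
        v.valuation K ((x.toMul : Kˣ) : K) = 1 := by
      intro v
      by_cases hv : v ∈ S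
      · have := valS_apply S x.toMul ⟨v, hv⟩
        rw [ofMul_toMul, hx] at this
        rw [← this]
        simp
      · exact x.toMul.2 v hv
    obtain ⟨a, ha⟩ := HeightOneSpectrum.mem_integers_of_valuation_le_one K
      ((x.toMul : Kˣ) : K) (fun v => (h1 v).le)
    obtain ⟨b, hb⟩ := HeightOneSpectrum.mem_integers_of_valuation_le_one K
      (((x.toMul : Kˣ)⁻¹ : Kˣ) : K) (fun v => by
        rw [Units.val_inv_eq_inv_val, map_inv₀, h1 v, inv_one])
    have hab : a * b = 1 := by
      apply FaithfulSMul.algebraMap_injective (𝓞 K) K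
      rw [map_mul, ha, hb, map_one, Units.mul_inv]
    refine ⟨Additive.ofMul (Units.mk a b hab (by rw [mul_comm, hab])), ?_⟩
    apply Additive.toMul.injective
    apply Subtype.ext
    apply Units.ext
    exact ha
  · rintro ⟨u, rfl⟩
    funext s
    have h := s.1.valuation_of_unit_eq (K := K) u.toMul
    change Multiplicative.toAdd (s.1.valuationOfNeZero (K := K) _) = 0
    change s.1.valuationOfNeZero (K := K) (Units.map (algebraMap (𝓞 K) K : 𝓞 K →* K) u.toMul) = 1
    exact h

theorem smul_mem_range [Finite S] (y : S → ℤ) :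
    Nat.card (ClassGroup (𝓞 K)) • y ∈ (valS (K := K) S).range := by
  classical
  have := Fintype.ofFinite S
  have h1 : ∀ s : S, Nat.card (ClassGroup (𝓞 K)) • (Pi.single s (1 : ℤ) : S → ℤ) ∈
      (valS (K := K) S).range := by
    intro s
    obtain ⟨x, hx1, hx2⟩ := exists_pow_principal K s.1
    refine ⟨-Additive.ofMul ⟨x, fun v hv => hx2 v (fun h => hv (h ▸ s.2))⟩, ?_⟩
    rw [map_neg]
    funext t
    rw [Pi.neg_apply, Pi.smul_apply]
    have h2 := valS_apply S ⟨x, fun v hv => hx2 v (fun h => hv (h ▸ s.2))⟩ t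
    by_cases hts : t = s
    · subst hts
      rw [hx1, WithZero.exp_inj] at h2
      rw [h2]
      simp
    · rw [hx2 t.1 (fun h => hts (Subtype.ext h)), ← WithZero.exp_zero, WithZero.exp_inj] at h2
      rw [h2, Pi.single_eq_of_ne hts]
      simp
  have h3 : Nat.card (ClassGroup (𝓞 K)) • y =
      ∑ s : S, y s • (Nat.card (ClassGroup (𝓞 K)) • (Pi.single s (1 : ℤ) : S → ℤ)) := by
    funext t
    rw [Finset.sum_apply, Finset.sum_eq_single t]
    · simp [mul_comm]
    · intro b _ hb
      simp [Pi.single_eq_of_ne (Ne.symm hb)]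
    · intro h
      exact absurd (Finset.mem_univ _) h
  rw [h3]
  exact AddSubgroup.sum_mem _ fun s _ => AddSubgroup.zsmul_mem _ (h1 s) _

theorem finrank_range_valS [Finite S] :
    finrank ℤ (LinearMap.range (valS (K := K) S).toIntLinearMap) = Nat.card S := by
  classical
  have := Fintype.ofFinite S
  have h0 : finrank ℤ (S → ℤ) = Nat.card S := by
    rw [finrank_fintype_fun_eq_card, Nat.card_eq_fintype_card]
  apply le_antisymm
  · rw [← h0]
    exact Submodule.finrank_le _
  · rw [← h0]
    let φ : (S → ℤ) →ₗ[ℤ] LinearMap.range (valS (K := K) S).toIntLinearMap :=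
      LinearMap.codRestrict _ (mulN (Nat.card (ClassGroup (𝓞 K))) (S → ℤ)) (fun y => by
        rw [mulN_apply]
        obtain ⟨x, hx⟩ := smul_mem_range (K := K) S y
        exact ⟨x, hx⟩)
    refine LinearMap.finrank_le_finrank_of_injective (f := φ) ?_
    intro a b hab
    have h1 : mulN (Nat.card (ClassGroup (𝓞 K))) (S → ℤ) a =
        mulN (Nat.card (ClassGroup (𝓞 K))) (S → ℤ) b := congrArg Subtype.val hab
    rw [mulN_apply, mulN_apply] at h1
    exact smul_right_injective _ (Nat.card_pos (α := ClassGroup (𝓞 K))).ne' h1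

theorem cok_sUnit (p : ℕ) [Fact p.Prime] (K : Type*) [Field K] [NumberField K]
    (S : Set (HeightOneSpectrum (𝓞 K))) (hS : S.Finite) :
    tor p (Additive (S.unit K)) ≠ 0 ∧
      cok p (Additive (S.unit K)) =
        p ^ (NumberField.Units.rank K + S.ncard) * tor p (Additive (S.unit K)) := by
  classical
  have : Finite S := hS
  have := Fintype.ofFinite S
  let V := (valS (K := K) S).toIntLinearMap
  let f := (ofUnits (K := K) S).toIntLinearMap
  have hker : LinearMap.ker V = LinearMap.range f := by
    ext x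
    exact exact_ofUnits S x
  let e1 : Additive (𝓞 K)ˣ ≃ₗ[ℤ] LinearMap.ker V :=
    (LinearEquiv.ofInjective f (ofUnits_injective S)).trans (LinearEquiv.ofEq _ _ hker.symm)
  let e2 := V.quotKerEquivRange
  have hf1 : Module.Finite ℤ (LinearMap.ker V) := Module.Finite.equiv e1
  have hf2 : Module.Finite ℤ (Additive (S.unit K) ⧸ LinearMap.ker V) :=
    Module.Finite.equiv e2.symm
  have hf : Module.Finite ℤ (Additive (S.unit K)) :=
    Module.Finite.of_submodule_quotient (LinearMap.ker V)
  have hr : finrank ℤ (Additive (S.unit K)) = NumberField.Units.rank K + S.ncard := by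
    rw [← Submodule.finrank_quotient_add_finrank (LinearMap.ker V), ← e1.finrank_eq,
      NumberField.Units.finrank_eq, e2.finrank_eq, finrank_range_valS, Nat.card_coe_set_eq,
      add_comm]
  rw [← hr]
  exact cok_fg p (Nat.Prime.ne_zero Fact.out) _

end sunit

end Groth.Agent.Etbc.H136.SUnit
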